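import Mathlib.RingTheory.ZariskisMainTheorem
import Mathlib.RingTheory.Finiteness.ModuleFinitePresentation
import Mathlib.RingTheory.IntegralClosure.IsIntegral.Basic
import Mathlib.RingTheory.FinitePresentation
import Mathlib.RingTheory.RingHom.FinitePresentation
import Mathlib.RingTheory.TensorProduct.Basic
import Mathlib.LinearAlgebra.TensorProduct.RightExactness

/-!
# Finitely presented finite models of quasi-finite algebras
-/

universe u

set_option autoImplicit false
set_option backward.isDefEq.respectTransparency false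

open Function TensorProduct

namespace Groth.Agent.FlatMorUniv

variable (A B : Type u) [CommRing A] [CommRing B] [Algebra A B]

/-- Killing the kernel of a localised map. -/
theorem bijective_awayMap_quotient {C₀ : Type u} [CommRing C₀] [Algebra A C₀] (φ₀ : C₀ →ₐ[A] B)
    (N : Ideal C₀) (hN : ∀ z ∈ N, φ₀ z = 0) (φ : C₀ ⧸ N →ₐ[A] B)
    (hφ : ∀ x, φ (Ideal.Quotient.mk N x) = φ₀ x) (g : C₀)
    (hsurj : Surjective (Localization.awayMap φ₀.toRingHom g)) (T : Finset C₀)
    (hT : ∀ x ∈ T, x ∈ N) (K : Finset C₀) (hKT : K ⊆ T)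
    (hK : RingHom.ker (Localization.awayMap φ₀.toRingHom g) =
      Ideal.span (algebraMap C₀ (Localization.Away g) '' (K : Set C₀))) :
    Bijective (Localization.awayMap φ.toRingHom (Ideal.Quotient.mk N g)) := by
  let χ : Localization.Away g →+* Localization.Away (Ideal.Quotient.mk N g) :=
    Localization.awayMap (Ideal.Quotient.mk N) g
  have hχ' : ∀ x, χ (algebraMap C₀ _ x) = algebraMap _ _ (Ideal.Quotient.mk N x) := fun x =>
    IsLocalization.map_eq _ _
  refine ⟨(injective_iff_map_eq_zero _).2 fun z hz => ?_, fun y => ?_⟩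
  · obtain ⟨n, a, ha⟩ := IsLocalization.Away.surj (Ideal.Quotient.mk N g) z
    obtain ⟨a, rfl⟩ := Ideal.Quotient.mk_surjective a
    have h1 : algebraMap B (Localization.Away (φ (Ideal.Quotient.mk N g)))
        (φ (Ideal.Quotient.mk N a)) = 0 := by
      have := congrArg (Localization.awayMap φ.toRingHom (Ideal.Quotient.mk N g)) ha
      rw [map_mul, hz, zero_mul, Localization.awayMap, IsLocalization.Away.map,
        IsLocalization.map_eq] at this
      exact this.symm
    have ha0 : algebraMap C₀ (Localization.Away g) a ∈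
        RingHom.ker (Localization.awayMap φ₀.toRingHom g) := by
      rw [RingHom.mem_ker, Localization.awayMap, IsLocalization.Away.map, IsLocalization.map_eq]
      obtain ⟨⟨_, m, rfl⟩, hm⟩ := (IsLocalization.map_eq_zero_iff
        (Submonoid.powers (φ (Ideal.Quotient.mk N g))) (Localization.Away _) _).1 h1
      refine (IsLocalization.map_eq_zero_iff (Submonoid.powers (φ₀ g)) _ _).2 ⟨⟨_, m, rfl⟩, ?_⟩
      show φ₀ g ^ m * φ₀ a = 0
      rw [← hφ, ← hφ]
      exact hm
    rw [hK] at ha0
    have h0 : χ (algebraMap C₀ _ a) = 0 := by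
      refine RingHom.mem_ker.1 ((Ideal.span_le.2 ?_ : Ideal.span _ ≤ RingHom.ker χ) ha0)
      rintro _ ⟨x, hx, rfl⟩
      show χ _ = 0
      rw [hχ', Ideal.Quotient.eq_zero_iff_mem.2 (hT x (hKT hx)), map_zero]
    rw [hχ', ← ha] at h0
    exact ((IsLocalization.Away.algebraMap_isUnit _).pow n).mul_left_eq_zero.1 h0
  · refine Localization.awayMap_surjective_iff.2 (fun x => ?_) y
    obtain ⟨c, m, hc⟩ := Localization.awayMap_surjective_iff.1 hsurj x
    refine ⟨Ideal.Quotient.mk N c, m, ?_⟩
    show φ _ = φ _ ^ m * x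
    rw [hφ, hφ]
    exact hc

/-- A quasi-finite finitely presented algebra is, Zariski locally on finitely many principal opens,
a localisation of a finite, finitely presented algebra. -/
theorem exists_model [Algebra.FinitePresentation A B] [Algebra.QuasiFinite A B] :
    ∃ (C : Type u) (_ : CommRing C) (_ : Algebra A C) (_ : Module.Finite A C)
      (_ : Algebra.FinitePresentation A C) (φ : C →ₐ[A] B) (s : Finset C),
        Ideal.span (φ '' (s : Set C)) = ⊤ ∧
        ∀ g ∈ s, Bijective (Localization.awayMap φ.toRingHom g) := by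
  classical
  have hloc : ∀ p : PrimeSpectrum B, ∃ S' : Subalgebra A B, S'.toSubmodule.FG ∧ ∃ r : S',
      r.1 ∉ p.asIdeal ∧ Bijective (Localization.awayMap S'.val.toRingHom r) := fun p =>
    Algebra.QuasiFiniteAt.exists_fg_and_exists_notMem_and_awayMap_bijective p.asIdeal
  choose S' hS' r hr hbij using hloc
  have hspan : Ideal.span (Set.range fun p => (r p).1) = ⊤ := by
    by_contra hne
    obtain ⟨m, hm, hle⟩ := Ideal.exists_le_maximal _ hne
    exact hr ⟨m, hm.isPrime⟩ (hle (Ideal.subset_span ⟨_, rfl⟩))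
  obtain ⟨t', ht', htspan⟩ := (Ideal.span_eq_top_iff_finite _).1 hspan
  rw [← Set.image_univ] at ht'
  obtain ⟨t, -, rfl⟩ := Finset.subset_set_image_iff.1 ht'
  rw [Finset.coe_image] at htspan
  -- finitely many integral generators
  have hgen : ∀ p, ∃ G : Finset B, Algebra.adjoin A (G : Set B) = S' p ∧
      ∀ x ∈ G, IsIntegral A x := fun p => by
    obtain ⟨G, hG⟩ := hS' p
    have hfin : Module.Finite A (S' p) := ⟨(Submodule.fg_top _).mpr (hS' p)⟩
    refine ⟨G, le_antisymm (Algebra.adjoin_le fun x hx => ?_) (fun x hx => ?_), fun x hx => ?_⟩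
    · exact hG.le (Submodule.subset_span hx)
    · have := hG.ge hx
      exact (Submodule.span_le (p := (Algebra.adjoin A (G : Set B)).toSubmodule)).2
        (fun y hy => Algebra.subset_adjoin hy) this
    · have hxS : x ∈ S' p := hG.le (Submodule.subset_span hx)
      exact (Algebra.IsIntegral.isIntegral (R := A) (⟨x, hxS⟩ : S' p)).map (S' p).val
  choose G hG using hgen
  let T : Finset B := t.biUnion G
  have hTint : ∀ x : T, IsIntegral A x.1 := fun x => by
    obtain ⟨b, hb, hx⟩ := Finset.mem_biUnion.1 x.2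
    exact (hG b).2 _ hx
  choose q hqm hq0 using hTint
  let ev : MvPolynomial T A →ₐ[A] B := MvPolynomial.aeval fun x => x.1
  let mon : Set (MvPolynomial T A) :=
    Set.range fun x => Polynomial.aeval (MvPolynomial.X x) (q x)
  -- a first finite free model
  let C₀ := MvPolynomial T A ⧸ Ideal.span mon
  have hmon : ∀ z ∈ Ideal.span mon, ev z = 0 := fun z hz => by
    refine RingHom.mem_ker.1 ((Ideal.span_le.2 ?_ : Ideal.span mon ≤ RingHom.ker ev) hz)
    rintro _ ⟨x, rfl⟩
    show ev _ = 0
    rw [← Polynomial.aeval_algHom_apply, show ev (MvPolynomial.X x) = x.1 from MvPolynomial.aeval_X _ x]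
    exact hq0 x
  let φ₀ : C₀ →ₐ[A] B := Ideal.Quotient.liftₐ _ ev hmon
  have hfp₀ : Algebra.FinitePresentation A C₀ :=
    .quotient (Submodule.fg_span (Set.finite_range _))
  have hfin₀ : Module.Finite A C₀ := by
    have hX : ∀ x : T, IsIntegral A (Ideal.Quotient.mkₐ A (Ideal.span mon) (MvPolynomial.X x)) :=
      fun x => ⟨q x, hqm x, by
        rw [← Polynomial.aeval_def, Polynomial.aeval_algHom_apply]
        exact Ideal.Quotient.eq_zero_iff_mem.2 (Ideal.subset_span ⟨x, rfl⟩)⟩
    have := fg_adjoin_of_finite (Set.finite_range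
      fun x : T => Ideal.Quotient.mkₐ A (Ideal.span mon) (MvPolynomial.X x))
      (by rintro _ ⟨x, rfl⟩; exact hX x)
    rw [show Set.range (fun x : T => Ideal.Quotient.mkₐ A (Ideal.span mon) (MvPolynomial.X x)) =
      Ideal.Quotient.mkₐ A (Ideal.span mon) '' Set.range (MvPolynomial.X (R := A)) from
        Set.range_comp _ _, Algebra.adjoin_image, MvPolynomial.adjoin_range_X, Algebra.map_top,
      (AlgHom.range_eq_top _).2 (Ideal.Quotient.mkₐ_surjective A _), Algebra.top_toSubmodule] at this
    exact ⟨this⟩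
  have hrange : ∀ b ∈ t, S' b ≤ φ₀.range := fun b hb => by
    rw [← (hG b).1]
    refine Algebra.adjoin_le fun x hx => ?_
    exact ⟨Ideal.Quotient.mk _ (MvPolynomial.X ⟨x, Finset.mem_biUnion.2 ⟨b, hb, hx⟩⟩),
      MvPolynomial.aeval_X _ _⟩
  have hlift : ∀ b, ∃ g : C₀, b ∈ t → φ₀ g = (r b).1 := fun b => by
    by_cases hb : b ∈ t
    · obtain ⟨g, hg⟩ := hrange b hb (r b).2
      exact ⟨g, fun _ => hg⟩
    · exact ⟨0, fun h => absurd h hb⟩
  choose g hg using hlift
  have hsurj₀ : ∀ b ∈ t, Surjective (Localization.awayMap φ₀.toRingHom (g b)) := fun b hb => by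
    refine (Localization.awayMap_surjective_iff).2 fun x => ?_
    obtain ⟨y, m, hy⟩ := (Localization.awayMap_surjective_iff).1 (hbij b).2 x
    obtain ⟨c, hc⟩ := hrange b hb y.2
    refine ⟨c, m, ?_⟩
    show φ₀ c = φ₀ (g b) ^ m * x
    rw [show φ₀ c = (y : B) from hc, hg b hb]
    exact hy
  -- kill the kernels
  have hker : ∀ b, ∃ K : Finset C₀, b ∈ t → (∀ k ∈ K, φ₀ k = 0) ∧
      RingHom.ker (Localization.awayMap φ₀.toRingHom (g b)) =
        Ideal.span (algebraMap C₀ (Localization.Away (g b)) '' (K : Set C₀)) := fun b => by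
    by_cases hb : b ∈ t
    swap
    · exact ⟨∅, fun h => absurd h hb⟩
    have h₁ : Algebra.FinitePresentation C₀ (Localization.Away (g b)) :=
      IsLocalization.Away.finitePresentation (g b)
    have h₂ : Algebra.FinitePresentation B (Localization.Away (φ₀ (g b))) :=
      IsLocalization.Away.finitePresentation (φ₀ (g b))
    have : Algebra.FinitePresentation A (Localization.Away (g b)) := .trans A C₀ _
    have : Algebra.FinitePresentation A (Localization.Away (φ₀ (g b))) := .trans A B _
    let μ : Localization.Away (g b) →ₐ[A] Localization.Away (φ₀ (g b)) :=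
      Localization.awayMapₐ φ₀ (g b)
    have hμ : Surjective μ := hsurj₀ b hb
    obtain ⟨W, hW⟩ := Algebra.FinitePresentation.ker_fG_of_surjective μ hμ
    have hnum : ∀ w ∈ W, ∃ k : C₀, φ₀ k = 0 ∧
        Associated w (algebraMap C₀ (Localization.Away (g b)) k) := fun w hw => by
      have hw0 : Localization.awayMap φ₀.toRingHom (g b) w = 0 :=
        RingHom.mem_ker.1 (hW.le (Ideal.subset_span hw))
      obtain ⟨n, a, ha⟩ := IsLocalization.Away.surj (g b) w
      have h0 : algebraMap B (Localization.Away (φ₀ (g b))) (φ₀ a) = 0 := by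
        have := congrArg (Localization.awayMap φ₀.toRingHom (g b)) ha
        rw [map_mul, hw0, zero_mul, Localization.awayMap, IsLocalization.Away.map,
          IsLocalization.map_eq] at this
        exact this.symm
      obtain ⟨⟨_, m, rfl⟩, hm⟩ := (IsLocalization.map_eq_zero_iff
        (Submonoid.powers (φ₀ (g b))) (Localization.Away (φ₀ (g b))) _).1 h0
      refine ⟨g b ^ m * a, by rw [map_mul, map_pow]; exact hm, ?_⟩
      rw [map_mul, map_pow, ← ha]
      have hu := IsLocalization.Away.algebraMap_isUnit (S := Localization.Away (g b)) (g b)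
      refine ⟨((hu.pow m).mul (hu.pow n)).unit, ?_⟩
      rw [IsUnit.unit_spec]
      ring
    choose! k hk0 hk using hnum
    refine ⟨W.image k, fun _ => ⟨fun x hx => ?_, ?_⟩⟩
    · obtain ⟨w, hw, rfl⟩ := Finset.mem_image.1 hx
      exact hk0 w hw
    · refine le_antisymm ?_ (Ideal.span_le.2 ?_)
      · refine hW.ge.trans (Ideal.span_le.2 fun w hw => ?_)
        obtain ⟨v, hv⟩ := (hk w hw).symm
        rw [SetLike.mem_coe, ← hv]
        exact Ideal.mul_mem_right _ _ (Ideal.subset_span ⟨k w, Finset.mem_image_of_mem _ hw, rfl⟩)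
      · rintro _ ⟨x, hx, rfl⟩
        obtain ⟨w, hw, rfl⟩ := Finset.mem_image.1 (Finset.mem_coe.1 hx)
        show Localization.awayMap φ₀.toRingHom (g b) _ = 0
        rw [Localization.awayMap, IsLocalization.Away.map, IsLocalization.map_eq]
        exact (congrArg _ (hk0 w hw)).trans (map_zero _)
  choose K hK using hker
  let N : Ideal C₀ := Ideal.span (t.biUnion K : Set C₀)
  have hN : ∀ z ∈ N, φ₀ z = 0 := fun z hz => by
    refine RingHom.mem_ker.1 ((Ideal.span_le.2 ?_ : N ≤ RingHom.ker φ₀) hz)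
    intro x hx
    obtain ⟨b, hb, hx⟩ := Finset.mem_biUnion.1 (Finset.mem_coe.1 hx)
    exact (hK b hb).1 x hx
  let φ : C₀ ⧸ N →ₐ[A] B := Ideal.Quotient.liftₐ N φ₀ hN
  have hNfg : N.FG := ⟨_, rfl⟩
  refine ⟨C₀ ⧸ N, inferInstance, inferInstance, inferInstance, .quotient hNfg, φ,
    t.image fun b => Ideal.Quotient.mk N (g b), ?_, fun c hc => ?_⟩
  · rw [eq_top_iff, ← htspan]
    refine Ideal.span_mono ?_
    rintro _ ⟨b, hb, rfl⟩
    exact ⟨_, Finset.mem_coe.2 (Finset.mem_image_of_mem _ hb), hg b hb⟩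
  · obtain ⟨b, hb, rfl⟩ := Finset.mem_image.1 hc
    exact bijective_awayMap_quotient A B φ₀ N hN φ (fun _ => rfl) (g b) (hsurj₀ b hb)
      (t.biUnion K) (fun x hx => Ideal.subset_span hx) (K b)
      (Finset.subset_biUnion_of_mem K hb) (hK b hb).2

variable {A}

/-- An element of a base change of a finitely presented module is killed universally by an algebra
of finite presentation, up to liftings. -/
theorem exists_vanishing (P : Type u) [CommRing P] [Algebra A P] [Algebra.FinitePresentation A P]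
    (C : Type u) [AddCommGroup C] [Module A C] [Module.FinitePresentation A C] (z : P ⊗[A] C) :
    ∃ (R : Type u) (_ : CommRing R) (_ : Algebra A R) (_ : Algebra.FinitePresentation A R)
      (ι : P →ₐ[A] R), ι.toLinearMap.rTensor C z = 0 ∧
        ∀ (R' : Type u) [CommRing R'] [Algebra A R'] (ψ : P →ₐ[A] R'),
          ψ.toLinearMap.rTensor C z = 0 → ∃ ψ' : R →ₐ[A] R', ψ'.comp ι = ψ := by
  classical
  obtain ⟨n, K, eC, hK⟩ := Module.FinitePresentation.exists_fin A C
  obtain ⟨rel, hrel⟩ := hK
  let π : (Fin n → A) →ₗ[A] C := eC.symm.toLinearMap ∘ₗ K.mkQ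
  have hπ : Surjective π := eC.symm.surjective.comp K.mkQ_surjective
  let coord : ∀ (R : Type u) [CommRing R] [Algebra A R], R ⊗[A] (Fin n → A) ≃ₗ[R] (Fin n → R) :=
    fun R _ _ => TensorProduct.piScalarRight A R R (Fin n)
  obtain ⟨w, hw⟩ := LinearMap.lTensor_surjective P hπ z
  let Q : Type u := MvPolynomial rel P
  let eqn : Fin n → Q := fun i => MvPolynomial.C (coord P w i) -
    ∑ ρ : rel, MvPolynomial.X ρ * MvPolynomial.C (algebraMap A P (ρ.1 i))
  let I : Ideal Q := Ideal.span (Set.range eqn)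
  have : Algebra.FinitePresentation P Q := inferInstanceAs (Algebra.FinitePresentation P (MvPolynomial rel P))
  have : Algebra.FinitePresentation A Q := .trans A P Q
  have hfp : Algebra.FinitePresentation A (Q ⧸ I) :=
    .quotient (Submodule.fg_span (Set.finite_range _))
  let ι : P →ₐ[A] Q ⧸ I :=
    (Ideal.Quotient.mkₐ A I).comp (IsScalarTower.toAlgHom A P Q)
  have hcoord : ∀ (R R' : Type u) [CommRing R] [Algebra A R] [CommRing R'] [Algebra A R']
      (ψ : R →ₐ[A] R') (v : R ⊗[A] (Fin n → A)) (i : Fin n),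
      coord R' (ψ.toLinearMap.rTensor _ v) i = ψ (coord R v i) := fun R R' _ _ _ _ ψ v i => by
    induction v using TensorProduct.induction_on with
    | zero => simp
    | add a b ha hb => simp only [map_add, Pi.add_apply, ha, hb]
    | tmul r f => simp [coord, Algebra.smul_def]
  refine ⟨Q ⧸ I, inferInstance, inferInstance, hfp, ι, ?_, fun R' _ _ ψ hψ => ?_⟩
  · rw [← hw, ← LinearMap.comp_apply, LinearMap.rTensor_comp_lTensor,
      ← LinearMap.lTensor_comp_rTensor, LinearMap.comp_apply]
    let v := ι.toLinearMap.rTensor (Fin n → A) w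
    have hv : v = ∑ ρ : rel, (Ideal.Quotient.mk I (MvPolynomial.X ρ)) ⊗ₜ[A] (ρ.1 : Fin n → A) := by
      apply (coord (Q ⧸ I)).injective
      funext i
      rw [hcoord, map_sum, Finset.sum_apply]
      simp only [coord, TensorProduct.piScalarRight_apply, TensorProduct.piScalarRightHom_tmul,
        Algebra.smul_def]
      have : Ideal.Quotient.mk I (eqn i) = 0 :=
        Ideal.Quotient.eq_zero_iff_mem.2 (Ideal.subset_span ⟨i, rfl⟩)
      rw [map_sub, sub_eq_zero, map_sum] at this
      refine this.trans (Finset.sum_congr rfl fun ρ _ => ?_)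
      rw [map_mul, mul_comm]
      rfl
    show π.lTensor _ v = 0
    rw [hv, map_sum]
    refine Finset.sum_eq_zero fun ρ _ => ?_
    have : π ρ.1 = 0 := by
      show eC.symm (K.mkQ ρ.1) = 0
      rw [show K.mkQ ρ.1 = 0 from
        (Submodule.Quotient.mk_eq_zero K).2 (hrel.le (Submodule.subset_span ρ.2))]
      exact map_zero _
    rw [LinearMap.lTensor_tmul, this, tmul_zero]
  · let κ : (rel → A) →ₗ[A] (Fin n → A) := Fintype.linearCombination A fun ρ : rel => ρ.1
    have hex : Exact κ π := by
      rw [LinearMap.exact_iff]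
      have hker : LinearMap.ker π = K := by
        ext x
        show eC.symm (K.mkQ x) = 0 ↔ _
        rw [map_eq_zero_iff _ eC.symm.injective]
        exact Submodule.Quotient.mk_eq_zero K
      rw [hker, Fintype.range_linearCombination, ← hrel]
      congr 1
      ext x
      simp
    rw [← hw, ← LinearMap.comp_apply, LinearMap.rTensor_comp_lTensor,
      ← LinearMap.lTensor_comp_rTensor, LinearMap.comp_apply] at hψ
    obtain ⟨u₀, hu₀⟩ := ((lTensor_exact R' hex hπ) _).1 hψ
    let c : rel → R' := TensorProduct.piScalarRight A R' R' rel u₀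
    let ev : Q →ₐ[A] R' := MvPolynomial.aevalTower ψ c
    refine ⟨Ideal.Quotient.liftₐ I ev fun q hq => ?_, AlgHom.ext fun p => ?_⟩
    · refine RingHom.mem_ker.1 ((Ideal.span_le.2 ?_ : I ≤ RingHom.ker ev) hq)
      rintro _ ⟨i, rfl⟩
      show ev (eqn i) = 0
      rw [map_sub, sub_eq_zero, map_sum]
      rw [MvPolynomial.aevalTower_C, ← hcoord P R' ψ w i, ← hu₀]
      simp only [map_mul, MvPolynomial.aevalTower_C, MvPolynomial.aevalTower_X, AlgHom.commutes]
      have : ∀ u, coord R' (κ.lTensor R' u) i =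
          ∑ ρ : rel, TensorProduct.piScalarRight A R' R' rel u ρ * algebraMap A R' (ρ.1 i) := fun u => by
        induction u using TensorProduct.induction_on with
        | zero => simp
        | add a b ha hb => simp only [map_add, Pi.add_apply, ha, hb, add_mul, Finset.sum_add_distrib]
        | tmul x f =>
          simp only [coord, κ, LinearMap.lTensor_tmul, TensorProduct.piScalarRight_apply,
            TensorProduct.piScalarRightHom_tmul, Fintype.linearCombination_apply, Finset.sum_apply,
            Pi.smul_apply, smul_eq_mul, Algebra.smul_def, map_sum, map_mul, Pi.mul_apply,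
            Pi.algebraMap_apply, Algebra.algebraMap_self, RingHom.id_apply, Finset.sum_mul]
          exact Finset.sum_congr rfl fun ρ _ => by ring
      rw [this u₀]
      refine Finset.sum_congr rfl fun ρ _ => ?_
      simp only [ev]
      erw [MvPolynomial.aevalTower_X, MvPolynomial.aevalTower_C, AlgHom.commutes]
    · show ev (algebraMap P Q p) = ψ p
      exact MvPolynomial.aevalTower_C _ _ p

end Groth.Agent.FlatMorUniv

namespace Groth.Agent.FlatMorUniv

open scoped TensorProduct in
/-- A universal idempotent in the ideal generated by finitely many elements. -/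
theorem exists_universal_idempotent {A : Type u} [CommRing A] (C : Type u) [CommRing C] [Algebra A C]
    [Module.Finite A C] [Algebra.FinitePresentation A C] (s : Finset C) :
    ∃ (R : Type u) (_ : CommRing R) (_ : Algebra A R) (_ : Algebra.FinitePresentation A R)
      (e : R ⊗[A] C), IsIdempotentElem e ∧
        e ∈ Ideal.span ((fun g : C => (1 : R) ⊗ₜ[A] g) '' (s : Set C)) ∧
        ∀ (R' : Type u) [CommRing R'] [Algebra A R'] (e' : R' ⊗[A] C), IsIdempotentElem e' →
          e' ∈ Ideal.span ((fun g : C => (1 : R') ⊗ₜ[A] g) '' (s : Set C)) →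
          ∃ ψ : R →ₐ[A] R', Algebra.TensorProduct.map ψ (AlgHom.id A C) e = e' := by
  classical
  have : Module.FinitePresentation A C := .of_finite_of_finitePresentation A C
  obtain ⟨N, c, hc⟩ := Module.Finite.exists_fin (R := A) (M := C)
  let κ := Fin N ⊕ (s × Fin N)
  let P := MvPolynomial κ A
  let mapC : ∀ {R₁ R₂ : Type u} [CommRing R₁] [Algebra A R₁] [CommRing R₂] [Algebra A R₂],
      (R₁ →ₐ[A] R₂) → (R₁ ⊗[A] C →ₐ[A] R₂ ⊗[A] C) :=
    fun ψ => Algebra.TensorProduct.map ψ (AlgHom.id A C)
  have hmap : ∀ {R₁ R₂ : Type u} [CommRing R₁] [Algebra A R₁] [CommRing R₂] [Algebra A R₂]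
      (ψ : R₁ →ₐ[A] R₂) (z : R₁ ⊗[A] C), ψ.toLinearMap.rTensor C z = mapC ψ z := fun ψ z => by
    induction z using TensorProduct.induction_on with
    | zero => simp
    | add a b ha hb => simp only [map_add, ha, hb]
    | tmul a b => simp [mapC]
  let e₀ : P ⊗[A] C := ∑ j, MvPolynomial.X (Sum.inl j) ⊗ₜ[A] c j
  let r₀ : P ⊗[A] C := ∑ g : s, (∑ j, MvPolynomial.X (Sum.inr (g, j)) ⊗ₜ[A] c j) * ((1 : P) ⊗ₜ[A] g.1)
  obtain ⟨R₁, _, _, hR₁, ι₁, h₁, univ₁⟩ := exists_vanishing P C (e₀ * e₀ - e₀)
  obtain ⟨R₂, _, _, hR₂, ι₂, h₂, univ₂⟩ := exists_vanishing R₁ C (mapC ι₁ (e₀ - r₀))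
  refine ⟨R₂, inferInstance, inferInstance, hR₂, mapC ι₂ (mapC ι₁ e₀), ?_, ?_, fun R' _ _ e' he' hs' => ?_⟩
  · rw [hmap, map_sub, map_mul, sub_eq_zero] at h₁
    show _ * _ = _
    rw [← map_mul, h₁]
  · rw [hmap, map_sub, map_sub, sub_eq_zero] at h₂
    rw [h₂, map_sum, map_sum]
    refine Ideal.sum_mem _ fun g _ => ?_
    rw [map_mul, map_mul]
    refine Ideal.mul_mem_left _ _ (Ideal.subset_span ⟨g.1, g.2, ?_⟩)
    simp [mapC]
  · have hgen : ∀ w : R' ⊗[A] C, ∃ v : Fin N → R', w = ∑ j, v j ⊗ₜ[A] c j := fun w => by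
      induction w using TensorProduct.induction_on with
      | zero => exact ⟨0, by simp⟩
      | add a b ha hb =>
        obtain ⟨v, rfl⟩ := ha
        obtain ⟨v', rfl⟩ := hb
        exact ⟨v + v', by simp [TensorProduct.add_tmul, Finset.sum_add_distrib]⟩
      | tmul a b =>
        obtain ⟨v, rfl⟩ := (Submodule.mem_span_range_iff_exists_fun A).1 (hc.ge (Submodule.mem_top (x := b)))
        exact ⟨fun j => v j • a, by simp [TensorProduct.tmul_sum, TensorProduct.smul_tmul]⟩
    obtain ⟨v, hv⟩ := hgen e'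
    have hs'' : ∃ w : s → R' ⊗[A] C, e' = ∑ g : s, w g * ((1 : R') ⊗ₜ[A] g.1) := by
      rw [Set.image_eq_range] at hs'
      obtain ⟨w, hw⟩ := (Ideal.mem_span_range_iff_exists_fun).1 hs'
      exact ⟨fun g => w g, hw.symm⟩
    obtain ⟨w, hw⟩ := hs''
    choose u hu using fun g => hgen (w g)
    let ψ₀ : P →ₐ[A] R' := MvPolynomial.aeval (Sum.elim v fun p => u p.1 p.2)
    have hX : ∀ k, ψ₀ (MvPolynomial.X k) = Sum.elim v (fun p => u p.1 p.2) k := fun k =>
      MvPolynomial.aeval_X _ k
    have he : mapC ψ₀ e₀ = e' := by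
      rw [hv, map_sum]
      simp [mapC, hX]
    have hr : mapC ψ₀ r₀ = e' := by
      rw [hw, map_sum]
      refine Finset.sum_congr rfl fun g _ => ?_
      rw [map_mul, map_sum, hu g]
      simp [mapC, hX]
    obtain ⟨ψ₁, hψ₁⟩ := univ₁ R' ψ₀ (by rw [hmap, map_sub, map_mul, he, he'.eq, sub_self])
    have hcomp : ∀ z, mapC ψ₁ (mapC ι₁ z) = mapC ψ₀ z := fun z => by
      rw [← hψ₁]
      induction z using TensorProduct.induction_on with
      | zero => simp
      | add a b ha hb => simp only [map_add, ha, hb]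
      | tmul a b => simp [mapC]
    obtain ⟨ψ₂, hψ₂⟩ := univ₂ R' ψ₁ (by rw [hmap, hcomp, map_sub, he, hr, sub_self])
    refine ⟨ψ₂, ?_⟩
    show mapC ψ₂ _ = e'
    rw [← he, ← hcomp e₀, ← hψ₂]
    generalize mapC ι₁ e₀ = z
    induction z using TensorProduct.induction_on with
    | zero => simp
    | add a b ha hb => simp only [map_add, ha, hb]
    | tmul a b => simp [mapC]

end Groth.Agent.FlatMorUniv
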