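import Groth.Agent.FlatMorUniv.Model
import Groth.Agent.EGA43.InjFibre.Scheme
import Mathlib.AlgebraicGeometry.Morphisms.Finite
import Mathlib.AlgebraicGeometry.Morphisms.QuasiFinite

/-!
# Finite opens of base changes of an affine quasi-finite scheme
-/

universe u

set_option autoImplicit false
set_option backward.isDefEq.respectTransparency false

open Function TensorProduct AlgebraicGeometry CategoryTheory CategoryTheory.Limits TopologicalSpace

namespace Groth.Agent.FlatMorUniv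

/-- The spectrum map of a ring map out of the global functions of an affine scheme. -/
noncomputable def gSpec {Y : Scheme.{u}} [IsAffine Y] {C : Type u} [CommRing C]
    (φ : Γ(Y, ⊤) →+* C) : Spec (.of C) ⟶ Y :=
  Spec.map (CommRingCat.ofHom φ) ≫ Y.isoSpec.inv

theorem isoSpec_inv_appTop (Y : Scheme.{u}) [IsAffine Y] :
    Y.isoSpec.inv.appTop = (Scheme.ΓSpecIso Γ(Y, ⊤)).inv := by
  have h : Y.isoSpec.hom.appTop = (Scheme.ΓSpecIso Γ(Y, ⊤)).hom := Y.toSpecΓ_appTop
  have h' : Y.isoSpec.inv.appTop ≫ Y.isoSpec.hom.appTop = 𝟙 _ := by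
    rw [← Scheme.Hom.comp_appTop, Iso.hom_inv_id, Scheme.Hom.id_appTop]
  rw [h] at h'
  exact (Iso.comp_hom_eq_id _).1 h'

theorem gSpec_appTop {Y : Scheme.{u}} [IsAffine Y] {C : Type u} [CommRing C] (φ : Γ(Y, ⊤) →+* C) :
    (gSpec φ).appTop = CommRingCat.ofHom φ ≫ (Scheme.ΓSpecIso (.of C)).inv := by
  rw [gSpec, Scheme.Hom.comp_appTop, isoSpec_inv_appTop, Scheme.ΓSpecIso_inv_naturality]
  rfl

section Open

variable {C B : Type u} [CommRing C] [CommRing B] (φ : C →+* B) (s : Finset C)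

theorem exists_notMem (hs : Ideal.span (φ '' (s : Set C)) = ⊤) (p : Ideal B) (hp : p.IsPrime) :
    ∃ g ∈ s, φ g ∉ p := by
  by_contra h
  push Not at h
  refine hp.ne_top (top_le_iff.1 (hs ▸ Ideal.span_le.2 ?_))
  rintro _ ⟨g, hg, rfl⟩
  exact h g hg

theorem isOpenImmersion_specMap (hs : Ideal.span (φ '' (s : Set C)) = ⊤)
    (hb : ∀ g ∈ s, Bijective (Localization.awayMap φ g)) :
    IsOpenImmersion (Spec.map (CommRingCat.ofHom φ)) ∧
      Set.range (Spec.map (CommRingCat.ofHom φ)) =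
        ⋃ g ∈ s, (PrimeSpectrum.basicOpen g : Set (PrimeSpectrum C)) := by
  have hsq : ∀ g, CommRingCat.ofHom φ ≫ CommRingCat.ofHom (algebraMap B (Localization.Away (φ g))) =
      CommRingCat.ofHom (algebraMap C (Localization.Away g)) ≫
        CommRingCat.ofHom (Localization.awayMap φ g) := fun g => by
    ext x
    simp [Localization.awayMap, IsLocalization.Away.map]
  have hopen : ∀ g ∈ s, IsOpenImmersion
      (Spec.map (CommRingCat.ofHom (algebraMap B (Localization.Away (φ g)))) ≫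
        Spec.map (CommRingCat.ofHom φ)) := fun g hg => by
    have : IsIso (CommRingCat.ofHom (Localization.awayMap φ g)) :=
      (ConcreteCategory.isIso_iff_bijective _).2 (hb g hg)
    have : IsOpenImmersion (Spec.map (CommRingCat.ofHom (algebraMap C (Localization.Away g)))) :=
      IsOpenImmersion.of_isLocalization g
    rw [← Spec.map_comp, hsq, Spec.map_comp]
    infer_instance
  have hinj : Injective (Spec.map (CommRingCat.ofHom φ)) := by
    intro p q hpq
    obtain ⟨g, hg, hgp⟩ := exists_notMem φ s hs p.asIdeal p.isPrime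
    have hgq : φ g ∉ q.asIdeal := fun h => hgp (by
      have := congrArg PrimeSpectrum.asIdeal hpq
      exact (this ▸ h : g ∈ (PrimeSpectrum.comap φ p).asIdeal))
    obtain ⟨p', rfl⟩ : p ∈ Set.range (PrimeSpectrum.comap (algebraMap B (Localization.Away (φ g)))) := by
      rw [PrimeSpectrum.localization_away_comap_range (Localization.Away (φ g)) (φ g)]; exact hgp
    obtain ⟨q', rfl⟩ : q ∈ Set.range (PrimeSpectrum.comap (algebraMap B (Localization.Away (φ g)))) := by
      rw [PrimeSpectrum.localization_away_comap_range (Localization.Away (φ g)) (φ g)]; exact hgq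
    have := hopen g hg
    exact congrArg _ ((Spec.map (CommRingCat.ofHom (algebraMap B (Localization.Away (φ g)))) ≫
      Spec.map (CommRingCat.ofHom φ)).isOpenEmbedding.injective hpq)
  refine ⟨IsOpenImmersion.of_forall_source_exists _ hinj fun p => ?_, ?_⟩
  · obtain ⟨g, hg, hgp⟩ := exists_notMem φ s hs p.asIdeal p.isPrime
    have : IsOpenImmersion (Spec.map (CommRingCat.ofHom (algebraMap B (Localization.Away (φ g))))) :=
      IsOpenImmersion.of_isLocalization (φ g)
    refine ⟨_, _, this, ?_, hopen g hg⟩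
    rw [Scheme.Hom.opensRange_localizationAway (R := CommRingCat.of B) (φ g)]
    exact hgp
  · refine subset_antisymm ?_ (Set.iUnion₂_subset fun g hg q hq => ?_)
    · rintro _ ⟨p, rfl⟩
      obtain ⟨g, hg, hgp⟩ := exists_notMem φ s hs p.asIdeal p.isPrime
      exact Set.mem_iUnion₂.2 ⟨g, hg, hgp⟩
    · have : IsIso (CommRingCat.ofHom (Localization.awayMap φ g)) :=
        (ConcreteCategory.isIso_iff_bijective _).2 (hb g hg)
      obtain ⟨q', rfl⟩ : q ∈ Set.range (Spec.map (CommRingCat.ofHom (algebraMap C (Localization.Away g)))) := by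
        show q ∈ Set.range (PrimeSpectrum.comap (algebraMap C (Localization.Away g)))
        rw [PrimeSpectrum.localization_away_comap_range (Localization.Away g) g]; exact hq
      obtain ⟨p', rfl⟩ := (Spec.map (CommRingCat.ofHom (Localization.awayMap φ g))).surjective q'
      refine ⟨Spec.map (CommRingCat.ofHom (algebraMap B (Localization.Away (φ g)))) p', ?_⟩
      rw [← Scheme.Hom.comp_apply, ← Scheme.Hom.comp_apply, ← Spec.map_comp, ← Spec.map_comp, hsq]

end Open

/-- Clopen subsets of affine schemes are cut out by idempotents. -/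
theorem exists_idempotent_of_isClopen {Z : Scheme.{u}} [IsAffine Z] {t : Set Z} (ht : IsClopen t) :
    ∃ e : Γ(Z, ⊤), IsIdempotentElem e ∧ t = (Z.basicOpen e : Set Z) := by
  have hc : IsClopen (Z.isoSpec.inv ⁻¹' t) := ht.preimage Z.isoSpec.inv.continuous
  obtain ⟨e, he, hte⟩ := PrimeSpectrum.exists_idempotent_basicOpen_eq_of_isClopen hc
  refine ⟨e, he, ?_⟩
  have h1 : Z.toSpecΓ ⁻¹ᵁ (PrimeSpectrum.basicOpen e) = Z.basicOpen e :=
    Scheme.toSpecΓ_preimage_basicOpen Z e
  rw [← h1]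
  ext z
  have : Z.isoSpec.inv (Z.isoSpec.hom z) = z := by
    rw [← Scheme.Hom.comp_apply, Iso.hom_inv_id]; rfl
  show _ ↔ Z.toSpecΓ z ∈ (PrimeSpectrum.basicOpen e : Set (PrimeSpectrum Γ(Z, ⊤)))
  rw [← hte, Set.mem_preimage]
  exact Iff.of_eq (congrArg (· ∈ t) this.symm)

/-- Basic opens of idempotents are closed. -/
theorem isClosed_basicOpen {Z : Scheme.{u}} {e : Γ(Z, ⊤)} (he : IsIdempotentElem e) :
    IsClosed (Z.basicOpen e : Set Z) := by
  rw [← isOpen_compl_iff]
  suffices (Z.basicOpen e : Set Z)ᶜ = Z.basicOpen (1 - e) from this ▸ (Z.basicOpen (1 - e)).2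
  ext z
  show ¬ z ∈ Z.basicOpen e ↔ z ∈ Z.basicOpen (1 - e)
  rw [Scheme.mem_basicOpen_top, Scheme.mem_basicOpen_top, map_sub, map_one]
  have := IsLocalRing.isUnit_or_isUnit_one_sub_self ((Z.presheaf.Γgerm z).hom e)
  constructor
  · intro h
    exact this.resolve_left h
  · intro h h'
    have h0 : ((Z.presheaf.Γgerm z).hom e) * (1 - (Z.presheaf.Γgerm z).hom e) = 0 := by
      rw [mul_sub, mul_one, ← map_mul, he.eq, sub_self]
    exact not_isUnit_zero (h0 ▸ h'.mul h)

variable {X Y : Scheme.{u}} [IsAffine X] [IsAffine Y] {C : Type u} [CommRing C] [Algebra Γ(Y, ⊤) C]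

variable (C) in
/-- The finite model. -/
noncomputable abbrev model (Y : Scheme.{u}) [IsAffine Y] [Algebra Γ(Y, ⊤) C] : Spec (.of C) ⟶ Y :=
  gSpec (algebraMap Γ(Y, ⊤) C)

variable (C) in
/-- Sections of a base change of the finite model, as a map from the tensor product. -/
theorem exists_sections_equiv {Y' : Scheme.{u}} [IsAffine Y'] (b : Y' ⟶ Y) :
    letI := b.appTop.hom.toAlgebra
    ∃ lam : Γ(Y', ⊤) ⊗[Γ(Y, ⊤)] C ≃+* Γ(pullback (model C Y) b, ⊤),
      ∀ r c, lam (r ⊗ₜ c) = (pullback.snd (model C Y) b).appTop r *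
        (pullback.fst (model C Y) b).appTop ((Scheme.ΓSpecIso (.of C)).inv c) := by
  let _ := b.appTop.hom.toAlgebra
  let P := pullback (model C Y) b
  have : IsAffine P := inferInstance
  have h0 := isPushout_appTop_of_isPullback (IsPullback.of_hasPullback (model C Y) b)
  let fstC : CommRingCat.of C ⟶ Γ(P, ⊤) :=
    (Scheme.ΓSpecIso (.of C)).inv ≫ (pullback.fst (model C Y) b).appTop
  have h1 : IsPushout (CommRingCat.ofHom (algebraMap Γ(Y, ⊤) C)) b.appTop fstC
      (pullback.snd (model C Y) b).appTop := by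
    refine h0.of_iso (Iso.refl _) (Scheme.ΓSpecIso (.of C)) (Iso.refl _) (Iso.refl _) ?_ ?_ ?_ ?_
    · simp [model, gSpec_appTop]
    · simp
    · simp [fstC]
    · simp
  let _ : Algebra C Γ(P, ⊤) := fstC.hom.toAlgebra
  let _ : Algebra Γ(Y', ⊤) Γ(P, ⊤) := (pullback.snd (model C Y) b).appTop.hom.toAlgebra
  let _ : Algebra Γ(Y, ⊤) Γ(P, ⊤) :=
    ((pullback.snd (model C Y) b).appTop.hom.comp b.appTop.hom).toAlgebra
  have : IsScalarTower Γ(Y, ⊤) Γ(Y', ⊤) Γ(P, ⊤) := .of_algebraMap_eq fun _ => rfl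
  have : IsScalarTower Γ(Y, ⊤) C Γ(P, ⊤) :=
    .of_algebraMap_eq fun r => (ConcreteCategory.congr_hom h1.w r).symm
  have : Algebra.IsPushout Γ(Y, ⊤) Γ(Y', ⊤) C Γ(P, ⊤) :=
    CommRingCat.isPushout_iff_isPushout.1 h1.flip
  exact ⟨(Algebra.IsPushout.equiv Γ(Y, ⊤) Γ(Y', ⊤) C Γ(P, ⊤)).toRingEquiv, fun r c =>
    Algebra.IsPushout.equiv_tmul _ _ _ _ r c⟩

/-- An idempotent lies in an ideal iff its basic open is covered by those of the generators. -/
theorem mem_span_iff_basicOpen {Z : Scheme.{u}} [IsAffine Z] {e : Γ(Z, ⊤)} (he : IsIdempotentElem e)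
    (T : Set Γ(Z, ⊤)) :
    e ∈ Ideal.span T ↔ ∀ z ∈ Z.basicOpen e, ∃ t ∈ T, z ∈ Z.basicOpen t := by
  have hU := isAffineOpen_top Z
  constructor
  · intro h z hz
    by_contra hne
    push Not at hne
    refine (EGA43.InjFibre.mem_basicOpen_iff_notMem hU (x := z) trivial e).1 hz
      (Ideal.span_le.2 (fun t ht => ?_) h)
    by_contra hgq
    exact hne t ht ((EGA43.InjFibre.mem_basicOpen_iff_notMem hU (x := z) trivial t).2 hgq)
  · intro h
    have hrad : e ∈ (Ideal.span T).radical := by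
      rw [Ideal.radical_eq_sInf, Ideal.mem_sInf]
      rintro q ⟨hq, hqp⟩
      by_contra hne
      let z := hU.fromSpec ⟨q, hqp⟩
      have hzq : hU.primeIdealOf ⟨z, trivial⟩ = ⟨q, hqp⟩ :=
        hU.fromSpec.isOpenEmbedding.injective (hU.fromSpec_primeIdealOf _)
      obtain ⟨t, ht, hzt⟩ := h z ((EGA43.InjFibre.mem_basicOpen_iff_notMem hU (x := z) trivial e).2
        (by rw [hzq]; exact hne))
      have := (EGA43.InjFibre.mem_basicOpen_iff_notMem hU (x := z) trivial t).1 hzt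
      rw [hzq] at this
      exact this (hq (Ideal.subset_span ht))
    obtain ⟨n, hn⟩ := hrad
    cases n with
    | zero =>
      rw [pow_zero] at hn
      exact (Ideal.eq_top_iff_one _).2 hn ▸ Submodule.mem_top
    | succ n => rwa [he.pow_succ_eq] at hn

/-- Morphisms into a relative spectrum from algebra maps. -/
theorem gSpec_lift {Y Y' : Scheme.{u}} [IsAffine Y] [IsAffine Y'] (b : Y' ⟶ Y) {R : Type u}
    [CommRing R] [Algebra Γ(Y, ⊤) R] (ψ : R →+* Γ(Y', ⊤))
    (hψ : ψ.comp (algebraMap Γ(Y, ⊤) R) = b.appTop.hom) :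
    ∃ c : Y' ⟶ Spec (.of R), c ≫ gSpec (algebraMap Γ(Y, ⊤) R) = b ∧
      ∀ r, c.appTop ((Scheme.ΓSpecIso (.of R)).inv r) = ψ r := by
  refine ⟨Y'.isoSpec.hom ≫ Spec.map (CommRingCat.ofHom ψ), ?_, fun r => ?_⟩
  · rw [gSpec, Category.assoc, ← Spec.map_comp_assoc,
      show CommRingCat.ofHom (algebraMap Γ(Y, ⊤) R) ≫ CommRingCat.ofHom ψ = b.appTop from
        CommRingCat.hom_ext hψ, Scheme.isoSpec_inv_naturality, Iso.hom_inv_id_assoc]
  · have h : Y'.isoSpec.hom.appTop = (Scheme.ΓSpecIso Γ(Y', ⊤)).hom := Y'.toSpecΓ_appTop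
    have : (Scheme.ΓSpecIso (.of R)).inv ≫ (Y'.isoSpec.hom ≫ Spec.map (CommRingCat.ofHom ψ)).appTop =
        CommRingCat.ofHom ψ := by
      rw [Scheme.Hom.comp_appTop, h, ← Category.assoc, ← Scheme.ΓSpecIso_inv_naturality]
      erw [Category.assoc, Iso.inv_hom_id, Category.comp_id]
    exact ConcreteCategory.congr_hom this r

/-- The open immersion of a base change of `X` into that of the finite model. -/
noncomputable abbrev jmap {X Y Z Y' : Scheme.{u}} {f : X ⟶ Y} {h : Z ⟶ Y} (j : X ⟶ Z)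
    (hjh : j ≫ h = f) (b : Y' ⟶ Y) : pullback f b ⟶ pullback h b :=
  pullback.map f b h b j (𝟙 _) (𝟙 Y) (by rw [Category.comp_id, hjh]) (by simp)

theorem range_jmap {X Y Z Y' : Scheme.{u}} {f : X ⟶ Y} {h : Z ⟶ Y} (j : X ⟶ Z)
    (hjh : j ≫ h = f) (b : Y' ⟶ Y) : Set.range (jmap j hjh b) = pullback.fst h b ⁻¹' Set.range j := by
  rw [Scheme.Pullback.range_map]
  simp

/-- Sections of the finite models are compatible with base change. -/
theorem sections_natural {C R : Type u} [CommRing C] [Algebra Γ(Y, ⊤) C] [CommRing R]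
    [Algebra Γ(Y, ⊤) R] {Y' Yu : Scheme.{u}} (a : Yu ⟶ Y) (b : Y' ⟶ Y) (c : Y' ⟶ Yu) (hc : c ≫ a = b)
    (η : R →+* Γ(Yu, ⊤)) (ψ : R →+* Γ(Y', ⊤)) (hcη : ∀ r, c.appTop (η r) = ψ r)
    (lamu : R → C → Γ(pullback (model C Y) a, ⊤)) (lam : R → C → Γ(pullback (model C Y) b, ⊤))
    (hlamu : ∀ r k, lamu r k = (pullback.snd (model C Y) a).appTop (η r) *
        (pullback.fst (model C Y) a).appTop ((Scheme.ΓSpecIso (.of C)).inv k))
    (hlam : ∀ r k, lam r k = (pullback.snd (model C Y) b).appTop (ψ r) *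
        (pullback.fst (model C Y) b).appTop ((Scheme.ΓSpecIso (.of C)).inv k))
    (r : R) (k : C) :
    (pullback.map (model C Y) b (model C Y) a (𝟙 _) c (𝟙 Y) (by simp)
      (by rw [Category.comp_id, hc])).appTop (lamu r k) = lam r k := by
  let m := pullback.map (model C Y) b (model C Y) a (𝟙 _) c (𝟙 Y) (by simp)
      (by rw [Category.comp_id, hc])
  have h1 : (pullback.snd (model C Y) a).appTop ≫ m.appTop =
      c.appTop ≫ (pullback.snd (model C Y) b).appTop := by
    rw [← Scheme.Hom.comp_appTop, ← Scheme.Hom.comp_appTop, pullback.lift_snd]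
  have h2 : (pullback.fst (model C Y) a).appTop ≫ m.appTop = (pullback.fst (model C Y) b).appTop := by
    rw [← Scheme.Hom.comp_appTop, pullback.lift_fst, Category.comp_id]
  rw [hlamu, hlam, map_mul, ← hcη, ← CategoryTheory.comp_apply, ← CategoryTheory.comp_apply]
  erw [h1, h2]
  rfl

/-- **Universal finite open** of a quasi-finite affine morphism. -/
theorem exists_universal (f : X ⟶ Y) [LocallyQuasiFinite f] [LocallyOfFinitePresentation f] :
    ∃ (Yu : Scheme.{u}) (a : Yu ⟶ Y) (Uu : (pullback f a).Opens), LocallyOfFinitePresentation a ∧ QuasiCompact a ∧ QuasiSeparated a ∧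
      IsFinite (Uu.ι ≫ pullback.snd f a) ∧
      ∀ (Y' : Scheme.{u}) (b : Y' ⟶ Y) (U' : (pullback f b).Opens), IsAffine Y' → IsFinite (U'.ι ≫ pullback.snd f b) →
        ∃ (c : Y' ⟶ Yu) (hc : c ≫ a = b),
          (pullback.map f b f a (𝟙 X) c (𝟙 Y) ((Category.comp_id f).trans (Category.id_comp f).symm) ((Category.comp_id b).trans hc.symm)) ⁻¹ᵁ Uu = U' := by
  classical
  let B := Γ(X, ⊤)
  let _ : Algebra Γ(Y, ⊤) B := f.appTop.hom.toAlgebra
  have : Algebra.FinitePresentation Γ(Y, ⊤) B :=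
    (HasRingHomProperty.iff_of_isAffine (P := @LocallyOfFinitePresentation)).1 ‹_›
  have : Algebra.QuasiFinite Γ(Y, ⊤) B :=
    (HasRingHomProperty.iff_of_isAffine (P := @LocallyQuasiFinite)).1 ‹_›
  obtain ⟨C, _, _, hCfin, hCfp, φ, s, hs, hb⟩ := exists_model Γ(Y, ⊤) B
  let h := model C Y
  have hfinh : IsFinite h := by
    rw [show h = Spec.map (CommRingCat.ofHom (algebraMap Γ(Y, ⊤) C)) ≫ Y.isoSpec.inv from rfl]
    have : IsFinite (Spec.map (CommRingCat.ofHom (algebraMap Γ(Y, ⊤) C))) :=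
      (IsFinite.SpecMap_iff _).2 (RingHom.finite_algebraMap.2 hCfin)
    infer_instance
  let j : X ⟶ Spec (.of C) := X.isoSpec.hom ≫ Spec.map (CommRingCat.ofHom φ.toRingHom)
  obtain ⟨hjopen₀, hjrange₀⟩ := isOpenImmersion_specMap φ.toRingHom s hs hb
  have hjopen : IsOpenImmersion j := inferInstance
  have hjrange : Set.range j = ⋃ g ∈ s, (PrimeSpectrum.basicOpen g : Set (PrimeSpectrum C)) := by
    rw [← hjrange₀]
    refine subset_antisymm (by rintro _ ⟨x, rfl⟩; exact ⟨_, rfl⟩) ?_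
    rintro _ ⟨q, rfl⟩
    obtain ⟨x, rfl⟩ := X.isoSpec.hom.surjective q
    exact ⟨x, rfl⟩
  have hjh : j ≫ h = f := by
    show (X.isoSpec.hom ≫ _) ≫ Spec.map _ ≫ Y.isoSpec.inv = f
    rw [Category.assoc, ← Spec.map_comp_assoc,
      show CommRingCat.ofHom (algebraMap Γ(Y, ⊤) C) ≫ CommRingCat.ofHom φ.toRingHom = f.appTop from
        CommRingCat.hom_ext φ.comp_algebraMap,
      Scheme.isoSpec_inv_naturality, Iso.hom_inv_id_assoc]
  obtain ⟨R, _, _, hRfp, e, he, hes, huniv⟩ := exists_universal_idempotent (A := Γ(Y, ⊤)) C s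
  let a : Spec (.of R) ⟶ Y := gSpec (algebraMap Γ(Y, ⊤) R)
  have hafp : LocallyOfFinitePresentation a := by
    have : LocallyOfFinitePresentation (Spec.map (CommRingCat.ofHom (algebraMap Γ(Y, ⊤) R))) :=
      (HasRingHomProperty.Spec_iff (P := @LocallyOfFinitePresentation)).2
        (RingHom.finitePresentation_algebraMap.2 hRfp)
    exact inferInstanceAs (LocallyOfFinitePresentation (Spec.map _ ≫ Y.isoSpec.inv))
  let _ := a.appTop.hom.toAlgebra
  let η : R →ₐ[Γ(Y, ⊤)] Γ(Spec (.of R), ⊤) :=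
    { (Scheme.ΓSpecIso (.of R)).inv.hom with
      commutes' := fun r => (ConcreteCategory.congr_hom (gSpec_appTop (algebraMap Γ(Y, ⊤) R)) r).symm }
  obtain ⟨lamu, hlamu⟩ := exists_sections_equiv C a
  let Φu : R ⊗[Γ(Y, ⊤)] C →+* Γ(pullback h a, ⊤) :=
    lamu.toRingHom.comp (Algebra.TensorProduct.map η (AlgHom.id Γ(Y, ⊤) C)).toRingHom
  have hΦu : ∀ r k, Φu (r ⊗ₜ k) = (pullback.snd h a).appTop (η r) *
      (pullback.fst h a).appTop ((Scheme.ΓSpecIso (.of C)).inv k) := fun r k => by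
    show lamu (Algebra.TensorProduct.map η (AlgHom.id Γ(Y, ⊤) C) (r ⊗ₜ k)) = _
    rw [Algebra.TensorProduct.map_tmul, hlamu]
    rfl
  have hJsnd : ∀ {Y' : Scheme.{u}} (b : Y' ⟶ Y),
      jmap j hjh b ≫ pullback.snd h b = pullback.snd f b :=
    fun b => (pullback.lift_snd _ _ _).trans (Category.comp_id _)
  have hWle : ∀ {Y' : Scheme.{u}} (b : Y' ⟶ Y) (g : C) (z : (pullback h b : Scheme)),
      z ∈ (pullback h b).basicOpen ((pullback.fst h b).appTop ((Scheme.ΓSpecIso (.of C)).inv g)) ↔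
        pullback.fst h b z ∈ PrimeSpectrum.basicOpen g := fun b g z => by
    rw [← Scheme.preimage_basicOpen_top, basicOpen_eq_of_affine]
    rfl
  have hone : ∀ g, Φu (1 ⊗ₜ g) = (pullback.fst h a).appTop ((Scheme.ΓSpecIso (.of C)).inv g) := fun g => by
    rw [hΦu, map_one, map_one, one_mul]
  refine ⟨Spec (.of R), a, jmap j hjh a ⁻¹ᵁ (pullback h a).basicOpen (Φu e), hafp, inferInstance,
    inferInstance, ?_, ?_⟩
  · let V := jmap j hjh a ⁻¹ᵁ (pullback h a).basicOpen (Φu e)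
    have hes' : Φu e ∈ Ideal.span ((fun g => Φu (1 ⊗ₜ g)) '' (s : Set C)) := by
      have := Ideal.mem_map_of_mem Φu hes
      rwa [Ideal.map_span, Set.image_image] at this
    have hrange : Set.range (V.ι ≫ jmap j hjh a) = ((pullback h a).basicOpen (Φu e) : Set _) := by
      refine subset_antisymm (by rintro _ ⟨v, rfl⟩; exact v.2) fun z hz => ?_
      obtain ⟨_, ⟨g, hg, rfl⟩, hzg⟩ := (mem_span_iff_basicOpen (he.map Φu) _).1 hes' z hz
      have hz' : z ∈ Set.range (jmap j hjh a) := by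
        rw [range_jmap, Set.mem_preimage, hjrange]
        exact Set.mem_iUnion₂.2 ⟨g, hg, (hWle a g z).1 (hone g ▸ hzg)⟩
      obtain ⟨v, rfl⟩ := hz'
      exact ⟨⟨v, hz⟩, rfl⟩
    have : IsClosedImmersion (V.ι ≫ jmap j hjh a) :=
      IsClosedImmersion.of_isPreimmersion _ (hrange ▸ isClosed_basicOpen (he.map Φu))
    rw [← hJsnd a, ← Category.assoc]
    infer_instance
  intro Y' b U' hY' hU'
  let _ := b.appTop.hom.toAlgebra
  obtain ⟨lam, hlam⟩ := exists_sections_equiv C b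
  have : IsFinite ((U'.ι ≫ jmap j hjh b) ≫ pullback.snd h b) := by
    rw [Category.assoc, hJsnd]; exact hU'
  have := IsFinite.of_comp (U'.ι ≫ jmap j hjh b) (pullback.snd h b)
  have hclopen : IsClopen (Set.range (U'.ι ≫ jmap j hjh b)) :=
    ⟨(U'.ι ≫ jmap j hjh b).isClosedMap.isClosed_range,
      (U'.ι ≫ jmap j hjh b).isOpenEmbedding.isOpen_range⟩
  obtain ⟨e', he', hte⟩ := exists_idempotent_of_isClopen hclopen
  have hes' : lam.symm e' ∈ Ideal.span ((fun g : C => (1 : Γ(Y', ⊤)) ⊗ₜ[Γ(Y, ⊤)] g) '' (s : Set C)) := by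
    suffices e' ∈ (Ideal.span ((fun g : C => lam (1 ⊗ₜ[Γ(Y, ⊤)] g)) '' (s : Set C))) by
      have := Ideal.mem_map_of_mem lam.symm.toRingHom this
      rw [Ideal.map_span, Set.image_image] at this
      simpa using this
    refine (mem_span_iff_basicOpen he' _).2 fun z hz => ?_
    have hz'' : z ∈ Set.range (U'.ι ≫ jmap j hjh b) := hte ▸ hz
    have hz' : pullback.fst h b z ∈ Set.range j := by
      obtain ⟨v, hv⟩ := hz''
      have : z ∈ Set.range (jmap j hjh b) := ⟨_, hv⟩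
      rwa [range_jmap] at this
    rw [hjrange] at hz'
    obtain ⟨g, hg, hgz⟩ := Set.mem_iUnion₂.1 hz'
    refine ⟨_, ⟨g, hg, rfl⟩, ?_⟩
    dsimp only
    rw [hlam, map_one, one_mul]
    exact (hWle b g z).2 hgz
  obtain ⟨ψ, hψ⟩ := huniv Γ(Y', ⊤) (lam.symm e') (he'.map lam.symm) hes'
  obtain ⟨c, hc, hcη⟩ := gSpec_lift b ψ.toRingHom ψ.comp_algebraMap
  refine ⟨c, hc, ?_⟩
  let m := pullback.map h b h a (𝟙 _) c (𝟙 Y) (by simp) (by rw [Category.comp_id, hc])
  let Φ : R ⊗[Γ(Y, ⊤)] C →+* Γ(pullback h b, ⊤) :=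
    lam.toRingHom.comp (Algebra.TensorProduct.map ψ (AlgHom.id Γ(Y, ⊤) C)).toRingHom
  have hΦ : Φ e = e' := by
    show lam (Algebra.TensorProduct.map ψ (AlgHom.id Γ(Y, ⊤) C) e) = e'
    rw [hψ, lam.apply_symm_apply]
  have hΦ' : ∀ r k, Φ (r ⊗ₜ k) = (pullback.snd h b).appTop (ψ r) *
      (pullback.fst h b).appTop ((Scheme.ΓSpecIso (.of C)).inv k) := fun r k => by
    show lam (Algebra.TensorProduct.map ψ (AlgHom.id Γ(Y, ⊤) C) (r ⊗ₜ k)) = _
    rw [Algebra.TensorProduct.map_tmul, hlam]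
    rfl
  have hm : ∀ t, m.appTop (Φu t) = Φ t := fun t => by
    induction t using TensorProduct.induction_on with
    | zero => simp
    | add t t' ht ht' => simp only [map_add, ht, ht']
    | tmul r k =>
      exact sections_natural a b c hc η.toRingHom ψ.toRingHom hcη (fun r k => Φu (r ⊗ₜ k))
        (fun r k => Φ (r ⊗ₜ k)) hΦu hΦ' r k
  have hmJ : pullback.map f b f a (𝟙 X) c (𝟙 Y) ((Category.comp_id f).trans (Category.id_comp f).symm)
      ((Category.comp_id b).trans hc.symm) ≫ jmap j hjh a = jmap j hjh b ≫ m := by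
    apply pullback.hom_ext <;> simp [m]
  rw [← Scheme.Hom.comp_preimage, hmJ, Scheme.Hom.comp_preimage, Scheme.preimage_basicOpen_top,
    hm, hΦ]
  ext x
  show jmap j hjh b x ∈ (pullback h b).basicOpen e' ↔ x ∈ U'
  have : (jmap j hjh b x ∈ Set.range (U'.ι ≫ jmap j hjh b)) ↔
      jmap j hjh b x ∈ (pullback h b).basicOpen e' := by rw [hte]; rfl
  rw [← this]
  exact ⟨fun ⟨v, hv⟩ => (jmap j hjh b).isOpenEmbedding.injective hv ▸ v.2, fun hx => ⟨⟨x, hx⟩, rfl⟩⟩

end Groth.Agent.FlatMorUniv
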